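import Mathlib
import Cfsg.Agent.GenA.GradedLie
import Cfsg.Agent.GenA.AssociatedLie
import Cfsg.Agent.GenA.FPFClassBound

/-!
An automorphism of prime order with few fixed points bounds the exponent of a late lower central factor
(Higman's theorem applied to a multiple of the Lie ring).
-/

set_option autoImplicit false

namespace Cfsg.Agent.GenA.Alperin

open GradedLie AssociatedLie
open scoped TensorProduct commutatorElement

set_option maxHeartbeats 1000000

/-- A set of classes fixed by an automorphism is no larger than its group of fixed points. -/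
theorem card_le_fixed {G : Type*} [Group G] [Finite G] (β : MulAut G) {F : Type*} [Finite F] (r : F → G)
    (M : Subgroup G) (hinj : ∀ a b, (r a)⁻¹ * r b ∈ M → a = b) (hfix : ∀ a, (r a)⁻¹ * β (r a) ∈ M)
    (hM : ∀ m ∈ M, β m ∈ M) : Nat.card F ≤ Nat.card {g : G // β g = g} := by
  classical
  let x : F × M → G := fun y => r y.1 * y.2
  let ψ : G → G := fun g => g⁻¹ * β g
  have hψ : ∀ y, ψ (x y) ∈ M := by
    rintro ⟨a, m, hm⟩
    show (r a * m)⁻¹ * β (r a * m) ∈ M
    rw [map_mul, show (r a * m)⁻¹ * (β (r a) * β m) = m⁻¹ * ((r a)⁻¹ * β (r a)) * β m by group]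
    exact mul_mem (mul_mem (inv_mem hm) (hfix a)) (hM m hm)
  have hC : ∀ g : G, β (g * (Function.invFun ψ (ψ g))⁻¹) = g * (Function.invFun ψ (ψ g))⁻¹ := by
    intro g
    set y := Function.invFun ψ (ψ g)
    have e : y⁻¹ * β y = g⁻¹ * β g := Function.invFun_eq (f := ψ) ⟨g, rfl⟩
    rw [map_mul, map_inv, show β y = y * (g⁻¹ * β g) by rw [← e]; group]
    group
  let Φ : F × M → M × {g : G // β g = g} := fun y =>
    (⟨ψ (x y), hψ y⟩, ⟨x y * (Function.invFun ψ (ψ (x y)))⁻¹, hC _⟩)
  have hΦ : Function.Injective Φ := by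
    rintro ⟨a, m⟩ ⟨b, k⟩ e
    have e1 : ψ (x (a, m)) = ψ (x (b, k)) := congrArg Subtype.val (congrArg Prod.fst e)
    have e2 := congrArg Subtype.val (congrArg Prod.snd e)
    simp only [Φ, e1] at e2
    have e3 : r a * m = r b * k := mul_right_cancel e2
    have hab : a = b := hinj a b (by
      rw [show (r a)⁻¹ * r b = m * (k : G)⁻¹ by
        rw [show r b = r a * m * (k : G)⁻¹ by rw [e3]; group]; group]
      exact mul_mem m.2 (inv_mem k.2))
    subst hab
    exact Prod.ext rfl (Subtype.ext (mul_left_cancel e3))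
  have h := Nat.card_le_card_of_injective Φ hΦ
  rw [Nat.card_prod, Nat.card_prod, mul_comm (Nat.card M)] at h
  exact Nat.le_of_mul_le_mul_right h Nat.card_pos

variable {G : Type*} [Group G] {p : ℕ}

/-- The map induced on a factor of the lower central series. -/
noncomputable def gmap (α : MulAut G) (i : ℕ) : Gr G i →+ Gr G i :=
  AddMonoidHom.mk' (fun a => cls i (α (rep a))) fun a b => by
    rw [← cls_mul (map_mem α (rep_mem a)) (map_mem α (rep_mem b)), ← map_mul]
    exact cls_auto α (rep_mem _) (mul_mem (rep_mem a) (rep_mem b))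
      (by rw [cls_rep, cls_mul (rep_mem a) (rep_mem b), cls_rep, cls_rep])

theorem gmap_cls (α : MulAut G) {i : ℕ} {x : G} (hx : x ∈ γ G i) : gmap α i (cls i x) = cls i (α x) :=
  cls_auto α (rep_mem _) hx (cls_rep _)

theorem gmap_iterate (α : MulAut G) {i : ℕ} (m : ℕ) (a : Gr G i) :
    (gmap α i)^[m] a = cls i ((α ^ m) (rep a)) := by
  induction m with
  | zero => exact (cls_rep a).symm
  | succ m ih =>
    have hx : (α ^ m) (rep a) ∈ γ G i := map_mem (α ^ m) (rep_mem a)
    rw [Function.iterate_succ_apply', ih, gmap_cls α hx, pow_succ', MulAut.mul_apply]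

theorem card_gmap_fixed [Finite G] (α : MulAut G) (i : ℕ) :
    Nat.card {a : Gr G i // gmap α i a = a} ≤ Nat.card {g : G // α g = g} := by
  haveI : Finite (Gr G i) := inferInstanceAs (Finite (Additive _))
  refine card_le_fixed α (fun a => rep a.1) (γ G (i + 1)) (fun a b h => ?_) (fun a => ?_) fun m hm => map_mem α hm
  · refine Subtype.ext ?_
    rw [← cls_rep a.1, ← cls_rep b.1]
    have := cls_mul (rep_mem a.1) (γ_le (Nat.le_succ i) h)
    rw [mul_inv_cancel_left, cls_eq_zero h, add_zero] at this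
    exact this.symm
  · refine mem_of_cls_eq_zero (mul_mem (inv_mem (rep_mem _)) (map_mem α (rep_mem _))) ?_
    rw [cls_mul (inv_mem (rep_mem _)) (map_mem α (rep_mem _)), cls_inv (rep_mem _), cls_rep,
      show cls i (α (rep a.1)) = a.1 from a.2, neg_add_cancel]

/-- The fixed classes are annihilated by the bound on the fixed points. -/
theorem nsmul_fixed [Finite G] [hp : Fact p.Prime] (hG : IsPGroup p G) (α : MulAut G) {n : ℕ}
    (hfix : Nat.card {g : G // α g = g} ≤ p ^ n) {i : ℕ} (a : Gr G i) (ha : gmap α i a = a) : p ^ n • a = 0 := by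
  haveI : Finite (Gr G i) := inferInstanceAs (Finite (Additive _))
  let H : AddSubgroup (Gr G i) := AddMonoidHom.eqLocus (gmap α i) (AddMonoidHom.id _)
  have hle : Nat.card H ≤ p ^ n := (card_gmap_fixed α i).trans hfix
  obtain ⟨m, hm⟩ : ∃ m, Nat.card (Gr G i) = p ^ m := by
    obtain ⟨m, hm⟩ := IsPGroup.iff_card.mp ((hG.to_subgroup (γ G i)).to_quotient ((γ G (i + 1)).subgroupOf (γ G i)))
    exact ⟨m, hm⟩
  obtain ⟨e, -, he⟩ := (Nat.dvd_prime_pow hp.out).mp (hm ▸ AddSubgroup.card_addSubgroup_dvd_card H)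
  have hen : e ≤ n := (Nat.pow_le_pow_iff_right hp.out.one_lt).mp (he ▸ hle)
  have h1 : (p ^ e) • (⟨a, ha⟩ : H) = 0 := he ▸ card_nsmul_eq_zero'
  have h2 : p ^ e • a = 0 := congrArg Subtype.val h1
  obtain ⟨d, hd⟩ := Nat.pow_dvd_pow p hen
  rw [hd, mul_comm, mul_nsmul', h2, nsmul_zero]

/-- Eigenspaces, scaled so as to have no zero component. -/
theorem eigen_scaled {K : Type*} [CommRing K] [IsDomain K] {A : Type*} [LieRing A] [LieAlgebra K A]
    [hp : Fact p.Prime] {ω : K} (hω : IsPrimitiveRoot ω p) (T : Module.End K A)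
    (hTlie : ∀ u v, T ⁅u, v⁆ = ⁅T u, T v⁆) (hTp : ∀ u, (T ^ p) u = u) (q : ℕ)
    (hfix : ∀ u, T u = u → q • u = 0) :
    ∃ F : Fam p K A, Closed F ∧ F 0 = ⊥ ∧ ∀ u, (q * p) • u ∈ ⨆ j, F j := by
  let L : Fam p K A := fun j => LinearMap.ker (T - (ω ^ j.val) • (1 : Module.End K A))
  have hmemL : ∀ j u, u ∈ L j ↔ T u = ω ^ j.val • u := fun j u => by
    simp only [L, LinearMap.mem_ker, LinearMap.sub_apply, LinearMap.smul_apply, Module.End.one_apply, sub_eq_zero]
  let s : A →ₗ[K] A := (q : K) • LinearMap.id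
  have hs : ∀ u, s u = q • u := fun u => Nat.cast_smul_eq_nsmul K q u
  let F : Fam p K A := fun j => (L j).map s
  refine ⟨F, fun j => br_le fun a b hab x hx y hy => ?_, ?_, fun u => ?_⟩
  · obtain ⟨x, hx, rfl⟩ := hx
    obtain ⟨y, hy, rfl⟩ := hy
    refine ⟨⁅x, s y⁆, ?_, by rw [hs, hs, hs, nsmul_lie]⟩
    rw [SetLike.mem_coe, hmemL] at hx hy ⊢
    rw [hs, lie_nsmul, map_nsmul, hTlie, hx, hy, smul_lie, lie_smul, smul_smul, ← pow_add, ← hab, ZMod.val_add,
      ← pow_eq_pow_mod _ hω.pow_eq_one, smul_comm]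
  · refine le_bot_iff.mp ?_
    rintro _ ⟨x, hx, rfl⟩
    rw [SetLike.mem_coe, hmemL, ZMod.val_zero, pow_zero, one_smul] at hx
    exact (Submodule.mem_bot K).mpr ((hs x).trans (hfix x hx))
  obtain ⟨ζ, hωζ⟩ : ∃ ζ, ω * ζ = 1 := ⟨ω ^ (p - 1), by
    rw [← pow_succ', Nat.sub_add_cancel hp.out.one_le, hω.pow_eq_one]⟩
  let e : ℕ → A := fun j => ∑ i ∈ Finset.range p, ζ ^ (j * i) • (T ^ i) u
  have hζpow : ζ ^ p = 1 := by
    have := congrArg (· ^ p) hωζ
    simpa [mul_pow, hω.pow_eq_one] using this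
  have hζp : IsPrimitiveRoot ζ p := by
    have hne : ζ ≠ 1 := fun h => hω.ne_one hp.out.one_lt (by rwa [h, mul_one] at hωζ)
    exact IsPrimitiveRoot.iff_orderOf.mpr (orderOf_eq_prime hζpow hne)
  have he : ∀ j : ℕ, e j ∈ L (j : ZMod p) := by
    intro j
    rw [hmemL, map_sum, Finset.smul_sum]
    have hval : ω ^ (j : ZMod p).val = ω ^ j := by rw [ZMod.val_natCast, hω.eq_orderOf, pow_mod_orderOf]
    rw [hval]
    set E : ℕ → A := fun i => ω ^ j • ζ ^ (j * i) • (T ^ i) u with hE
    have hshift : ∀ i, T (ζ ^ (j * i) • (T ^ i) u) = E (i + 1) := fun i => by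
      simp only [hE]
      rw [map_smul, ← Module.End.mul_apply, ← pow_succ', smul_smul, Nat.mul_succ, pow_add ζ,
        mul_left_comm, ← mul_pow, hωζ, one_pow, mul_one]
    rw [Finset.sum_congr rfl fun i _ => hshift i]
    apply add_right_cancel (b := E 0)
    rw [← Finset.sum_range_succ' E p, Finset.sum_range_succ]
    congr 1
    have hjp : ζ ^ (j * p) = 1 := by rw [mul_comm, pow_mul, hζpow, one_pow]
    simp only [hE, Nat.mul_zero, pow_zero, hjp, hTp, Module.End.one_apply]
  have hsum : ∑ j ∈ Finset.range p, e j = p • u := by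
    simp only [e]
    rw [Finset.sum_comm, Finset.sum_eq_single 0]
    · simp
    · intro i hi hi0
      rw [← Finset.sum_smul]
      simp only [mul_comm _ i, pow_mul]
      rw [(hζp.pow_of_coprime i ((hp.out.coprime_iff_not_dvd.mpr fun hd =>
        hi0 (Nat.eq_zero_of_dvd_of_lt hd (Finset.mem_range.mp hi))).symm)).geom_sum_eq_zero hp.out.one_lt, zero_smul]
    · intro h0; exact absurd (Finset.mem_range.mpr hp.out.pos) h0
  rw [mul_comm, mul_nsmul, ← hsum, ← hs, map_sum]
  exact Submodule.sum_mem _ fun j _ => Submodule.mem_iSup_of_mem _ (Submodule.mem_map_of_mem (he j))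

/-- Scaled pure tensors lie in the lower central series of a family. -/
theorem span_scaled [Fact p.Prime] {S : ℕ} {K : Type*} [CommRing K] (F : Fam p K (K ⊗[ℤ] LRing G S)) (s : ℕ)
    (htop : ∀ u, s • u ∈ ⨆ j, F j) :
    ∀ n, ∀ hn : n < S + 1, ∀ x ∈ γ G n,
      s ^ (n + 1) • ((1 : K) ⊗ₜ[ℤ] (single ⟨n, hn⟩ (cls n x) : LRing G S)) ∈ ⨆ j, lc F n j := by
  intro n
  induction n with
  | zero => intro hn x _; rw [pow_one]; exact htop _
  | succ n ih =>
    intro hn x hx
    suffices h : x ∈ γ G (n + 1) ∧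
        s ^ (n + 1 + 1) • ((1 : K) ⊗ₜ[ℤ] (single ⟨n + 1, hn⟩ (cls (n + 1) x) : LRing G S)) ∈ ⨆ j, lc F (n + 1) j
      from h.2
    rw [show γ G (n + 1) = ⁅γ G n, (⊤ : Subgroup G)⁆ from rfl, Subgroup.commutator_def] at hx
    induction hx using Subgroup.closure_induction with
    | mem z hz =>
      obtain ⟨a, ha, b, -, rfl⟩ := hz
      refine ⟨γ_comm (j := 0) ha (Subgroup.mem_top b), ?_⟩
      suffices e : (single ⟨n + 1, hn⟩ (cls (n + 1) ⁅a, b⁆) : LRing G S) =
          ⁅(single ⟨n, by omega⟩ (cls n a) : LRing G S), single ⟨0, by omega⟩ (cls 0 b)⁆ by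
        have h := FPFClassBound.bracket_mem (ih (by omega) a ha)
          (htop ((1 : K) ⊗ₜ[ℤ] (single ⟨0, by omega⟩ (cls 0 b) : LRing G S)))
        rwa [nsmul_lie, lie_nsmul, LieAlgebra.ExtendScalars.bracket_tmul, one_mul, ← e, ← mul_nsmul,
          ← pow_succ'] at h
      funext m
      rw [lie_def, br_single]
      by_cases hm : m = ⟨n + 1, hn⟩
      · subst hm
        rw [single_self]
        have hb0 : b ∈ γ G 0 := Subgroup.mem_top b
        exact (B_cls (i := n) (j := 0) (n := n + 1) (by omega) ha hb0).symm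
      · have h1 : n + 0 + 1 ≠ (m : ℕ) := fun e => hm (Fin.ext (show (m : ℕ) = n + 1 by omega))
        rw [single_ne hm]
        exact (B_ne (i := n) (j := 0) (n := (m : ℕ)) h1 _ _).symm
    | one => exact ⟨one_mem _, by rw [cls_one, single_zero, TensorProduct.tmul_zero, nsmul_zero]; exact zero_mem _⟩
    | mul a b _ _ ha hb =>
      exact ⟨mul_mem ha.1 hb.1, by
        rw [cls_mul ha.1 hb.1, single_add, TensorProduct.tmul_add, nsmul_add]; exact add_mem ha.2 hb.2⟩
    | inv a _ ha =>
      refine ⟨inv_mem ha.1, ?_⟩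
      have e : (single ⟨n + 1, hn⟩ (cls (n + 1) a⁻¹) : LRing G S) = -single ⟨n + 1, hn⟩ (cls (n + 1) a) := by
        rw [eq_neg_iff_add_eq_zero, ← single_add, cls_inv ha.1, neg_add_cancel, single_zero]
      rw [e, TensorProduct.tmul_neg, neg_nsmul]; exact neg_mem ha.2

/-- An extension of the integers by a primitive root, with a coefficient functional. -/
theorem exists_root_ring (p : ℕ) [hp : Fact p.Prime] :
    ∃ (K : Type) (_ : CommRing K) (_ : IsDomain K) (ω : K) (φ : K →ₗ[ℤ] ℤ), IsPrimitiveRoot ω p ∧ φ 1 = 1 := by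
  have hm : (Polynomial.cyclotomic p ℤ).Monic := Polynomial.cyclotomic.monic p ℤ
  haveI hd : IsDomain (AdjoinRoot (Polynomial.cyclotomic p ℤ)) :=
    AdjoinRoot.isDomain_of_prime (Polynomial.cyclotomic.irreducible hp.out.pos).prime
  set K := AdjoinRoot (Polynomial.cyclotomic p ℤ)
  let φ : K →ₗ[ℤ] ℤ := (Polynomial.lcoeff ℤ 0).comp (AdjoinRoot.modByMonicHom hm)
  have hφ : φ 1 = 1 := by
    show (AdjoinRoot.modByMonicHom hm (AdjoinRoot.mk _ 1)).coeff 0 = 1
    rw [AdjoinRoot.modByMonicHom_mk, (Polynomial.modByMonic_eq_self_iff hm).mpr, Polynomial.coeff_one_zero]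
    rw [Polynomial.degree_one]
    exact Polynomial.degree_cyclotomic_pos p ℤ hp.out.pos
  haveI : NeZero (p : K) := ⟨fun h => by
    have := congrArg φ h
    rw [← nsmul_one, map_nsmul, hφ, map_zero, nsmul_one] at this
    exact hp.out.ne_zero (Nat.cast_eq_zero.mp this)⟩
  refine ⟨K, inferInstance, hd, AdjoinRoot.root _, φ, Polynomial.isRoot_cyclotomic_iff.mp ?_, hφ⟩
  rw [← Polynomial.map_cyclotomic_int p K, Polynomial.IsRoot, Polynomial.eval_map,
    Subsingleton.elim (Int.castRingHom K) (AdjoinRoot.of _)]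
  exact AdjoinRoot.eval₂_root _

/-- The exponent of a factor whose degree exceeds the Higman bound. -/
theorem exponent_factor [Finite G] [hp : Fact p.Prime] (hG : IsPGroup p G) (α : MulAut G) (hα : α ^ p = 1) (n : ℕ)
    (hfix : Nat.card {g : G // α g = g} ≤ p ^ n) (S : ℕ)
    (hS : S = Finset.sum (Finset.range (2 ^ (p - 1) - 1)) fun i => (p - 1) ^ i) (a : Gr G S) :
    p ^ ((n + 2) * (S + 1)) • a = 0 := by
  classical
  obtain ⟨K, hK, hKd, ω, φ, hω, hφ⟩ := exists_root_ring p
  let T : Module.End K (K ⊗[ℤ] LRing G S) := ((auto (c := S) α).toIntLinearMap).baseChange K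
  have hTt : ∀ (k : K) (f : LRing G S), T (k ⊗ₜ f) = k ⊗ₜ auto α f := fun k f => rfl
  have hTlie : ∀ u v : K ⊗[ℤ] LRing G S, T ⁅u, v⁆ = ⁅T u, T v⁆ := FPFClassBound.hom_of_tmul T fun k l f g => by
    rw [LieAlgebra.ExtendScalars.bracket_tmul, hTt, hTt, hTt, LieAlgebra.ExtendScalars.bracket_tmul, auto_lie]
  have hiter : ∀ (i : ℕ) (k : K) (f : LRing G S), (T ^ i) (k ⊗ₜ f) = k ⊗ₜ ((auto α)^[i] f) := by
    intro i
    induction i with
    | zero => intro k f; rfl
    | succ i ih => intro k f; rw [pow_succ, Module.End.mul_apply, hTt, ih, Function.iterate_succ_apply]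
  have hperiod := FPFClassBound.auto_iterate_period (S := S) α hα
  have hTp : ∀ u : K ⊗[ℤ] LRing G S, (T ^ p) u = u := by
    intro u
    induction u with
    | zero => simp
    | add u v hu hv => simp [hu, hv]
    | tmul k f => rw [hiter, hperiod]
  have hfixed : ∀ f : LRing G S, auto α f = f → p ^ n • f = 0 := fun f hf => funext fun i =>
    nsmul_fixed hG α hfix (f i) (congrFun hf i)
  have hnorm : ∀ u : K ⊗[ℤ] LRing G S, p ^ n • (∑ i ∈ Finset.range p, (T ^ i) u) = 0 := by
    intro u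
    induction u with
    | zero => simp
    | add u v hu hv => simp [Finset.sum_add_distrib, nsmul_add, hu, hv]
    | tmul k f =>
      simp only [hiter, ← TensorProduct.tmul_sum]
      rw [← TensorProduct.tmul_smul, hfixed (∑ i ∈ Finset.range p, (auto α)^[i] f), TensorProduct.tmul_zero]
      rw [map_sum]
      simp only [← Function.iterate_succ_apply' (auto α)]
      apply add_right_cancel (b := (auto α)^[0] f)
      rw [← Finset.sum_range_succ' (fun i => (auto α)^[i] f) p, Finset.sum_range_succ, hperiod]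
      rfl
  have hT0 : ∀ u, T u = u → p ^ (n + 1) • u = 0 := by
    intro u hu
    have h1 : ∀ i : ℕ, (T ^ i) u = u := by
      intro i
      induction i with
      | zero => rfl
      | succ i ih => rw [pow_succ, Module.End.mul_apply, hu, ih]
    have h2 := hnorm u
    simp only [h1, Finset.sum_const, Finset.card_range] at h2
    rwa [smul_smul, ← pow_succ] at h2
  obtain ⟨F, hclosed, hF0, htop⟩ := eigen_scaled hω T hTlie hTp (p ^ (n + 1)) hT0
  rw [← pow_succ] at htop
  have hz := span_scaled F _ htop S (Nat.lt_succ_self S) (rep a) (rep_mem a)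
  have hbot := GradedLie.lc_eq_bot (p := p) hclosed hF0
  rw [← hS] at hbot
  have hz' := (iSup_le fun j => (le_of_eq (congrFun hbot j)) : (⨆ j, lc F S j) ≤ ⊥) hz
  rw [Submodule.mem_bot, cls_rep, ← pow_mul] at hz'
  let ev : LRing G S →ₗ[ℤ] Gr G S := AddMonoidHom.toIntLinearMap
    { toFun := fun f => f ⟨S, Nat.lt_succ_self S⟩, map_zero' := rfl, map_add' := fun _ _ => rfl }
  have h := congrArg ((TensorProduct.lid ℤ (Gr G S)).toLinearMap.comp (TensorProduct.map φ ev)) hz'
  rw [map_nsmul, map_zero, LinearMap.comp_apply, TensorProduct.map_tmul, LinearEquiv.coe_coe,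
    TensorProduct.lid_tmul, hφ, one_smul, show n + 1 + 1 = n + 2 by rfl] at h
  have he : ev (single ⟨S, Nat.lt_succ_self S⟩ a) = a := single_self _ _
  rwa [he] at h

end Cfsg.Agent.GenA.Alperin
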