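import Mathlib
import Cfsg.Agent.S3781
import Cfsg.Agent.GenA.Alperin.Exponent

/-!
Alperin: the derived length of a `p`-group with an automorphism of order `p` with few fixed points is bounded.
-/

set_option autoImplicit false

namespace Cfsg.Agent.GenA.Alperin

open AssociatedLie

/-- An endomorphism of period `p` with few fixed points bounds an abelian group of given exponent. -/
theorem card_le_of_fixed {M : Type*} [AddCommGroup M] [Finite M] {p : ℕ} [hp : Fact p.Prime] (f : M →+ M)
    (hf : ∀ x, f^[p] x = x) (n : ℕ) (hfix : Nat.card {x : M // f x = x} ≤ p ^ n) (a : ℕ)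
    (hexp : ∀ x : M, p ^ a • x = 0) : Nat.card M ≤ p ^ (a * (p * n)) := by
  classical
  let F : AddMonoid.End M := f
  set D : AddMonoid.End M := F - 1 with hD
  have hFp : F ^ p = 1 := by
    ext x
    rw [AddMonoid.End.coe_pow]
    exact hf x
  have hker : ∀ E : AddMonoid.End M, ∀ E' : AddMonoid.End M,
      Nat.card {x : M // (E * E') x = 0} ≤ Nat.card {x : M // E x = 0} * Nat.card {x : M // E' x = 0} := by
    intro E E'
    let H : AddSubgroup M := AddMonoidHom.ker (E * E' : AddMonoid.End M)
    let g : H →+ M := (E' : M →+ M).comp H.subtype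
    have hr : Nat.card g.range ≤ Nat.card {x : M // E x = 0} := by
      refine Nat.card_le_card_of_injective (fun w => ⟨w.1, ?_⟩) (fun x y h => Subtype.ext (congrArg Subtype.val h :))
      obtain ⟨v, hv⟩ := w.2
      rw [← hv]
      exact v.2
    have hk : Nat.card g.ker ≤ Nat.card {x : M // E' x = 0} :=
      Nat.card_le_card_of_injective (fun w => ⟨w.1.1, w.2⟩)
        (fun x y h => Subtype.ext (Subtype.ext (congrArg Subtype.val h :)))
    calc Nat.card {x : M // (E * E') x = 0} = Nat.card H := rfl
      _ = Nat.card g.ker * Nat.card g.range := by rw [← AddSubgroup.index_ker, AddSubgroup.card_mul_index]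
      _ ≤ _ := by rw [mul_comm]; exact Nat.mul_le_mul hr hk
  have hpow : ∀ (E : AddMonoid.End M) (m B : ℕ), Nat.card {x : M // E x = 0} ≤ B →
      Nat.card {x : M // (E ^ m) x = 0} ≤ B ^ m := by
    intro E m B hB
    induction m with
    | zero =>
      rw [pow_zero, pow_zero]
      haveI : Subsingleton {x : M // (1 : AddMonoid.End M) x = 0} :=
        ⟨fun x y => Subtype.ext (by simpa using x.2.trans y.2.symm)⟩
      exact Finite.card_le_one_iff_subsingleton.mpr inferInstance
    | succ m ih =>
      rw [pow_succ, pow_succ]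
      exact (hker _ _).trans (Nat.mul_le_mul ih hB)
  have hD1 : Nat.card {x : M // D x = 0} ≤ p ^ n := by
    refine le_trans ?_ hfix
    refine Nat.card_le_card_of_injective (fun w => ⟨w.1, ?_⟩) (fun x y h => Subtype.ext (congrArg Subtype.val h :))
    have := w.2
    rwa [show D w.1 = f w.1 - w.1 from rfl, sub_eq_zero] at this
  have hP : Nat.card {x : M // (p : AddMonoid.End M) x = 0} ≤ p ^ (p * n) := by
    refine le_trans ?_ ((hpow D p _ hD1).trans_eq (by rw [← pow_mul, mul_comm n p]))
    obtain ⟨r, hr⟩ := (Commute.one_right D).exists_add_pow_prime_eq hp.out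
    rw [hD, sub_add_cancel, hFp, one_pow] at hr
    refine Nat.card_le_card_of_injective (fun w => ⟨w.1, ?_⟩) (fun x y h => Subtype.ext (congrArg Subtype.val h :))
    have h1 := congrArg (fun E : AddMonoid.End M => E w.1) hr
    have hw : (p : AddMonoid.End M) w.1 = 0 := w.2
    have hcomm : ∀ E : AddMonoid.End M, ((p : AddMonoid.End M) * E) w.1 = 0 := fun E => by
      rw [(Nat.cast_commute p E).eq, AddMonoid.End.coe_mul, Function.comp_apply, hw, map_zero]
    simp only [mul_assoc] at h1
    rw [show ∀ A B C : AddMonoid.End M, (A + B + C) w.1 = A w.1 + B w.1 + C w.1 from fun A B C => rfl, hcomm,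
      add_zero] at h1
    exact add_eq_right.mp h1.symm
  refine le_trans ?_ ((hpow (p : AddMonoid.End M) a _ hP).trans_eq (by rw [← pow_mul, mul_comm a]))
  refine Nat.card_le_card_of_injective (fun w => ⟨w, ?_⟩) (fun x y h => (congrArg Subtype.val h :))
  rw [← Nat.cast_pow, AddMonoid.End.natCast_apply]
  exact hexp w

variable {G : Type*} [Group G]

/-- An automorphism maps the derived series into itself. -/
theorem map_derived (β : MulAut G) (k : ℕ) : (derivedSeries G k).map β.toMonoidHom = derivedSeries G k :=
  map_derivedSeries_eq β.surjective k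

/-- The derived series lies deep in the lower central series. -/
theorem derived_le_lcs (k : ℕ) : derivedSeries G k ≤ γ G (2 ^ k - 1) := by
  induction k with
  | zero => simp [γ]
  | succ k ih =>
    rw [derivedSeries_succ]
    refine (Subgroup.commutator_mono ih ih).trans ((Lazard.lcs_commutator _ _).trans (γ_le ?_))
    have := Nat.one_le_two_pow (n := k)
    rw [pow_succ]; omega

/-- The derived series below a term lies in the lower central series of that term. -/
theorem derived_add_le (k : ℕ) : ∀ j : ℕ, derivedSeries G (k + j) ≤ (derivedSeries G k).lowerCentralSeries j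
  | 0 => by simp
  | j + 1 => by
    rw [← add_assoc, derivedSeries_succ]
    exact Subgroup.commutator_mono (derived_add_le k j) (derivedSeries_antitone G (Nat.le_add_right k j))

/-- Alperin's bound for `p`-groups. -/
theorem derived_bound (p n : ℕ) [hp : Fact p.Prime] :
    ∃ l : ℕ, ∀ (P : Type) [Group P] [Finite P], IsPGroup p P → ∀ β : MulAut P, β ^ p = 1 →
      Nat.card {g : P // β g = g} ≤ p ^ n → derivedSeries P l = ⊥ := by
  classical
  set S := Finset.sum (Finset.range (2 ^ (p - 1) - 1)) fun i => (p - 1) ^ i with hS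
  have hS1 : 1 ≤ S := by
    have h2 := hp.out.two_le
    have : 2 ≤ 2 ^ (p - 1) := Nat.le_self_pow (by omega) 2
    refine le_trans ?_ (Finset.single_le_sum (f := fun i => (p - 1) ^ i) (fun i _ => Nat.zero_le _)
      (Finset.mem_range.mpr (show 0 < 2 ^ (p - 1) - 1 by omega)))
    simp
  set B := (n + 2) * (S + 1) * (p * n) with hB
  refine ⟨B + 1 + (S + 1), fun P _ _ hP β hβ hfix => ?_⟩
  set k := B + 1 with hk
  refine le_bot_iff.mp ((derived_add_le k (S + 1)).trans (le_of_eq ?_))
  set N := derivedSeries P k with hN
  by_contra hne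
  have hm : 1 ≤ 2 ^ k := Nat.one_le_two_pow
  have h1 := S3781.result hP (2 ^ k) hm N (derived_le_lcs k) (S + 1) (by omega) hne
  rw [Nat.add_sub_cancel] at h1
  let φ : N ≃* N := (β.subgroupMap N).trans (MulEquiv.subgroupCongr (map_derived β k))
  let β' : MulAut N := φ
  have hφ : ∀ x : N, (φ x : P) = β x := fun x => rfl
  have hiter : ∀ (i : ℕ) (x : N), ((β' ^ i) x : P) = (β ^ i) x := by
    intro i
    induction i with
    | zero => intro x; rfl
    | succ i ih => intro x; rw [pow_succ', pow_succ', MulAut.mul_apply, MulAut.mul_apply, ← ih x]; exact hφ _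
  have hβ' : β' ^ p = 1 := MulEquiv.ext fun x => Subtype.ext (by rw [hiter, hβ]; rfl)
  have hfix' : Nat.card {g : N // β' g = g} ≤ p ^ n := by
    refine le_trans ?_ hfix
    exact Nat.card_le_card_of_injective
      (fun g => (⟨(g.1 : P), by rw [← hφ]; exact congrArg Subtype.val g.2⟩ : {g : P // β g = g}))
      fun x y h => Subtype.ext (Subtype.ext (congrArg Subtype.val h :))
  haveI : Finite (Gr N S) := inferInstanceAs (Finite (Additive _))
  have hcard : Nat.card (Gr N S) ≤ p ^ B := by
    refine (card_le_of_fixed (gmap β' S) (fun a => ?_) n ((card_gmap_fixed β' S).trans hfix') ((n + 2) * (S + 1))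
      fun a => exponent_factor (hP.to_subgroup N) β' hβ' n hfix' S hS a).trans_eq rfl
    rw [gmap_iterate, hβ', MulAut.one_apply, cls_rep]
  have hmap : ∀ i, (γ N i).map N.subtype = N.lowerCentralSeries i := fun i => by
    rw [Subgroup.map_lowerCentralSeries, ← MonoidHom.range_eq_map, Subgroup.range_subtype]
  have hrel : (N.lowerCentralSeries (S + 1)).relIndex (N.lowerCentralSeries S) = Nat.card (Gr N S) := by
    rw [← hmap, ← hmap, Subgroup.relIndex_map_map_of_injective _ _ N.subtype_injective]
    rfl
  have h2 := (h1.trans (hrel.trans_le hcard))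
  have h3 := (Nat.pow_le_pow_iff_right hp.out.one_lt).mp h2
  have h4 : B + 1 < 2 ^ (B + 1) := Nat.lt_two_pow_self
  rw [hk] at h3
  omega

end Cfsg.Agent.GenA.Alperin
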