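import Mathlib
import Cfsg.Agent.S3779
import Cfsg.Agent.GenA.Alperin.PGroup
import Cfsg.Agent.Lib.Cores.Basic
import Cfsg.Agent.Lib.Coprime.Commutator
import Cfsg.Agent.Lib.PLocal.PSolvable
import Cfsg.Agent.Lib.PLocal.SolvableSeparable

/-!
Alperin's theorem: a finite solvable group with an automorphism of order `p` having `p ^ n` fixed points has derived
length bounded in terms of `p` and `n`.
-/

set_option autoImplicit false

namespace Cfsg.Agent.GenA.Alperin

open Cfsg

variable {G : Type*} [Group G]

/-- The restriction of an automorphism to an invariant subgroup. -/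
def restrict (β : MulAut G) (H : Subgroup G) (h : H.map β.toMonoidHom = H) : MulAut H :=
  (β.subgroupMap H).trans (MulEquiv.subgroupCongr h)

theorem restrict_pow_apply (β : MulAut G) (H : Subgroup G) (h : H.map β.toMonoidHom = H) :
    ∀ (i : ℕ) (x : H), ((restrict β H h ^ i) x : G) = (β ^ i) x
  | 0, x => rfl
  | i + 1, x => by
    rw [pow_succ', pow_succ', MulAut.mul_apply, MulAut.mul_apply, ← restrict_pow_apply β H h i x]
    rfl

theorem restrict_pow {β : MulAut G} {H : Subgroup G} (h : H.map β.toMonoidHom = H) {p : ℕ} (hβ : β ^ p = 1) :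
    restrict β H h ^ p = 1 :=
  MulEquiv.ext fun x => Subtype.ext (by rw [restrict_pow_apply, hβ]; rfl)

theorem card_restrict_fixed [Finite G] (β : MulAut G) (H : Subgroup G) (h : H.map β.toMonoidHom = H) :
    Nat.card {x : H // restrict β H h x = x} ≤ Nat.card {g : G // β g = g} :=
  Nat.card_le_card_of_injective
    (fun g => (⟨(g.1 : G), congrArg Subtype.val g.2⟩ : {g : G // β g = g}))
    fun x y e => Subtype.ext (Subtype.ext (congrArg Subtype.val e :))

theorem congr_pow_apply (β : MulAut G) (N : Subgroup G) [N.Normal] (h : N.map β.toMonoidHom = N) :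
    ∀ (i : ℕ) (x : G), ((QuotientGroup.congr N N β h : MulAut (G ⧸ N)) ^ i) (QuotientGroup.mk' N x) =
      QuotientGroup.mk' N ((β ^ i) x)
  | 0, x => rfl
  | i + 1, x => by
    rw [pow_succ', pow_succ', MulAut.mul_apply, MulAut.mul_apply, congr_pow_apply β N h i x]
    rfl

theorem congr_pow {β : MulAut G} {N : Subgroup G} [N.Normal] (h : N.map β.toMonoidHom = N) {p : ℕ} (hβ : β ^ p = 1) :
    (QuotientGroup.congr N N β h : MulAut (G ⧸ N)) ^ p = 1 := by
  refine MulEquiv.ext fun y => ?_
  obtain ⟨x, rfl⟩ := QuotientGroup.mk'_surjective N y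
  rw [congr_pow_apply, hβ]
  rfl

theorem card_congr_fixed [Finite G] (β : MulAut G) (N : Subgroup G) [N.Normal] (h : N.map β.toMonoidHom = N) :
    Nat.card {y : G ⧸ N // QuotientGroup.congr N N β h y = y} ≤ Nat.card {g : G // β g = g} := by
  refine card_le_fixed β (fun a => Quotient.out a.1) N (fun a b e => Subtype.ext ?_) (fun a => ?_)
    fun m hm => h ▸ Subgroup.mem_map_of_mem β.toMonoidHom hm
  · rw [← QuotientGroup.out_eq' a.1, ← QuotientGroup.out_eq' b.1]
    exact QuotientGroup.eq.mpr e
  · refine QuotientGroup.eq.mp ?_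
    have h1 := a.2
    rw [← QuotientGroup.out_eq' a.1] at h1
    exact h1.symm

/-- Derived length of an extension. -/
theorem derived_extension (N : Subgroup G) [N.Normal] (a b : ℕ) (ha : derivedSeries (G ⧸ N) a = ⊥)
    (hb : derivedSeries N b = ⊥) : derivedSeries G (a + b) = ⊥ := by
  have h1 : derivedSeries G a ≤ N := by
    have := map_derivedSeries_eq (QuotientGroup.mk'_surjective N) a
    rw [ha, Subgroup.map_eq_bot_iff, QuotientGroup.ker_mk'] at this
    exact this
  have h2 : ∀ j, derivedSeries G (a + j) ≤ (derivedSeries N j).map N.subtype := by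
    intro j
    induction j with
    | zero => simpa [← MonoidHom.range_eq_map] using h1
    | succ j ih =>
      rw [← add_assoc, derivedSeries_succ, derivedSeries_succ, Subgroup.map_commutator]
      exact Subgroup.commutator_mono ih ih
  refine le_bot_iff.mp ((h2 b).trans (le_of_eq ?_))
  rw [hb, Subgroup.map_bot]

/-- A solvable group of order at most `m` has derived length at most `m`. -/
theorem derived_of_card [Finite G] (hsol : Group.IsSolvable G) (m : ℕ) (hm : Nat.card G ≤ m) :
    derivedSeries G m = ⊥ := by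
  have key : ∀ j, derivedSeries G j = ⊥ ∨ Nat.card (derivedSeries G j) + j ≤ Nat.card G := by
    intro j
    induction j with
    | zero => right; rw [derivedSeries_zero, Subgroup.card_top, add_zero]
    | succ j ih =>
      rw [derivedSeries_succ]
      by_cases hb : derivedSeries G j = ⊥
      · left; rw [hb, Subgroup.commutator_bot_left]
      right
      have h := Group.IsSolvable.commutator_lt_of_ne_bot hb
      have h1 : Nat.card ↥⁅derivedSeries G j, derivedSeries G j⁆ < Nat.card (derivedSeries G j) := by
        refine lt_of_le_of_ne (Subgroup.card_le_of_le h.le) fun e => h.ne ?_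
        exact Subgroup.eq_of_le_of_card_ge h.le e.ge
      have := ih.resolve_left hb
      omega
  rcases key m with h | h
  · exact h
  · exfalso
    have := Nat.card_pos (α := derivedSeries G m)
    omega

/-- The action on the Frattini factor of a self-centralizing normal `p`-subgroup. -/
theorem card_quotient_le [Finite G] {p : ℕ} [hp : Fact p.Prime] (P : Subgroup G) [P.Normal] (hP : IsPGroup p P)
    (hC : Subgroup.centralizer (P : Set G) ≤ P) (hmax : ∀ N : Subgroup G, N.Normal → IsPGroup p N → N ≤ P)
    (M : ℕ) (hM : (frattini P).index ≤ M) : P.index ≤ M ^ M := by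
  classical
  set Φ : Subgroup G := (frattini P).map P.subtype
  set q := QuotientGroup.mk' Φ
  set V := P.map q
  haveI : V.Normal := Subgroup.Normal.map inferInstance _ (QuotientGroup.mk'_surjective _)
  let ρ : G →* MulAut V := (MulAut.conjNormal).comp q
  have hV : Nat.card V ≤ M := by
    refine le_of_eq_of_le ?_ hM
    have h1 : V = (q.comp P.subtype).range := by rw [MonoidHom.range_comp, Subgroup.range_subtype]
    have h2 : (q.comp P.subtype).ker = frattini P := by
      rw [← MonoidHom.comap_bot, ← Subgroup.comap_comap, MonoidHom.comap_bot, QuotientGroup.ker_mk']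
      exact Subgroup.comap_map_eq_self_of_injective P.subtype_injective _
    rw [h1, ← Subgroup.index_ker, h2]
  have hker : ∀ g ∈ ρ.ker, ∀ k ∈ P, g * k * g⁻¹ * k⁻¹ ∈ Φ := by
    intro g hg k hk
    have h1 := DFunLike.congr_fun (MonoidHom.mem_ker.mp hg) (⟨q k, Subgroup.mem_map_of_mem q hk⟩ : V)
    have h2 : q g * q k * (q g)⁻¹ = q k := congrArg Subtype.val h1
    rw [← QuotientGroup.eq_one_iff]
    show q (g * k * g⁻¹ * k⁻¹) = 1
    rw [map_mul, map_mul, map_mul, map_inv, map_inv, h2, mul_inv_cancel]
  have hkp : IsPGroup p ρ.ker := by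
    refine IsPGroup.iff_card.mpr ⟨_, Nat.eq_prime_pow_of_unique_prime_dvd Nat.card_pos.ne' fun {r} hr hrd => ?_⟩
    by_contra hne
    haveI := Fact.mk hr
    obtain ⟨a, ha⟩ := exists_prime_orderOf_dvd_card' r hrd
    have hord : orderOf (a : G) = r := by rw [Subgroup.orderOf_coe, ha]
    set A := Subgroup.zpowers (a : G)
    have hcop : (Nat.card A).Coprime (Nat.card (frattini P)) := by
      rw [Nat.card_zpowers, hord]
      obtain ⟨e, he⟩ := IsPGroup.iff_card.mp (hP.to_subgroup (frattini P))
      rw [he]
      exact ((Nat.coprime_primes hr hp.out).mpr hne).pow_right e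
    have hAP : A ≤ Subgroup.normalizer (P : Set G) := by
      rw [Subgroup.normalizer_eq_top]; exact le_top
    have h1 := Coprime.le_centralizer_of_frattini hAP hcop fun x hx k hk =>
      hker x ((Subgroup.zpowers_le.mpr a.2) hx) k hk
    have h2 : (a : G) ∈ P := hC (h1 (Subgroup.mem_zpowers _))
    obtain ⟨e, he⟩ := IsPGroup.iff_orderOf.mp hP ⟨_, h2⟩
    rw [Subgroup.orderOf_mk, hord] at he
    exact hne ((Nat.prime_dvd_prime_iff_eq hr hp.out).mp (hr.dvd_of_dvd_pow (dvd_of_eq he)))
  have hle : ρ.ker ≤ P := hmax _ (MonoidHom.normal_ker ρ) hkp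
  refine le_trans (Nat.le_of_dvd (Nat.pos_of_ne_zero Subgroup.FiniteIndex.index_ne_zero)
    (Subgroup.index_dvd_of_le hle)) ?_
  rw [Subgroup.index_ker]
  haveI : Finite (V → V) := inferInstance
  calc Nat.card ρ.range ≤ Nat.card (V → V) :=
        Nat.card_le_card_of_injective (fun e => ⇑(e.1 : MulAut V))
          fun x y e => Subtype.ext (MulEquiv.ext (congrFun e))
    _ = Nat.card V ^ Nat.card V := Nat.card_fun
    _ ≤ M ^ M := (Nat.pow_le_pow_left hV _).trans (Nat.pow_le_pow_right (le_trans Nat.card_pos hV) hV)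

/-- Alperin's theorem. -/
theorem main (p n : ℕ) [hp : Fact p.Prime] :
    ∃ l : ℕ, ∀ (G : Type) [Group G] [Finite G], Group.IsSolvable G → ∀ β : MulAut G, β ^ p = 1 →
      Nat.card {g : G // β g = g} = p ^ n → derivedSeries G l = ⊥ := by
  classical
  set S := Finset.sum (Finset.range (2 ^ (p - 1) - 1)) fun i => (p - 1) ^ i with hS
  obtain ⟨d, hd⟩ := derived_bound p n
  set M := p ^ (1 * (p * n)) with hMdef
  refine ⟨M ^ M + d + S, fun G _ _ hsol β hβ hfix => ?_⟩
  haveI := hsol
  set N := pPrimeCore p G with hNdef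
  have hN : N.map β.toMonoidHom = N := Subgroup.characteristic_iff_map_eq.mp inferInstance β
  refine derived_extension N (M ^ M + d) S ?_ ?_
  · haveI : Group.IsSolvable (G ⧸ N) := inferInstance
    set β₁ : MulAut (G ⧸ N) := QuotientGroup.congr N N β hN
    have hβ₁ : β₁ ^ p = 1 := congr_pow hN hβ
    have hfix₁ : Nat.card {y : G ⧸ N // β₁ y = y} ≤ p ^ n := (card_congr_fixed β N hN).trans hfix.le
    have hO : pPrimeCore p (G ⧸ N) = ⊥ := Cores.pPrimeCore_quotient_self p
    set P := pCore p (G ⧸ N) with hPdef
    have hP : IsPGroup p P := Cores.pCore_isPGroup p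
    have hP' : P.map β₁.toMonoidHom = P := Subgroup.characteristic_iff_map_eq.mp inferInstance β₁
    have hC : Subgroup.centralizer (P : Set (G ⧸ N)) ≤ P :=
      PLocal.PSolvable.centralizer_pCore_le hO (PLocal.SolvableSeparable.isPSolvable_of_isSolvable p _)
    set β₂ := restrict β₁ P hP'
    have hfix₂ : Nat.card {y : P // β₂ y = y} ≤ p ^ n := (card_restrict_fixed β₁ P hP').trans hfix₁
    have hβ₂ : β₂ ^ p = 1 := restrict_pow hP' hβ₁
    refine derived_extension P (M ^ M) d (derived_of_card inferInstance _ ?_) (hd P hP β₂ hβ₂ hfix₂)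
    rw [← Subgroup.index_eq_card]
    refine card_quotient_le P hP hC (fun K _ hK => Cores.le_pCore hK) M ?_
    haveI := hP.isNilpotent
    have hΦ : (frattini P).map β₂.toMonoidHom = frattini P := Subgroup.characteristic_iff_map_eq.mp inferInstance β₂
    set β₃ : MulAut (P ⧸ frattini P) := QuotientGroup.congr _ _ β₂ hΦ
    letI : CommGroup (P ⧸ frattini P) :=
      { (inferInstance : Group (P ⧸ frattini P)) with
        mul_comm := fun a b => by
          obtain ⟨x, rfl⟩ := QuotientGroup.mk'_surjective _ a
          obtain ⟨y, rfl⟩ := QuotientGroup.mk'_surjective _ b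
          rw [← commutatorElement_eq_one_iff_mul_comm, ← map_commutatorElement]
          exact (QuotientGroup.eq_one_iff _).mpr
            (Coprime.commutator_le_frattini P (Subgroup.commutator_mem_commutator (Subgroup.mem_top _) (Subgroup.mem_top _))) }
    rw [Subgroup.index_eq_card]
    refine card_le_of_fixed (M := Additive (P ⧸ frattini P)) (MonoidHom.toAdditive β₃.toMonoidHom) (fun x => ?_) n
      ((card_congr_fixed β₂ _ hΦ).trans hfix₂) 1 (fun x => ?_)
    · have hit : ∀ (i : ℕ) (y : P ⧸ frattini P),
          (MonoidHom.toAdditive β₃.toMonoidHom)^[i] (Additive.ofMul y) = Additive.ofMul ((β₃ ^ i) y) := by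
        intro i
        induction i with
        | zero => intro y; rfl
        | succ i ih => intro y; rw [Function.iterate_succ_apply', ih, pow_succ', MulAut.mul_apply]; rfl
      rw [← ofMul_toMul x, hit, congr_pow hΦ hβ₂]
      rfl
    · obtain ⟨y, hy⟩ := QuotientGroup.mk'_surjective _ (Additive.toMul x)
      refine Additive.toMul.injective ?_
      rw [toMul_nsmul, pow_one, ← hy, ← map_pow, toMul_zero]
      exact (QuotientGroup.eq_one_iff _).mpr (Solvable.Basics.pow_mem_frattini hP _)
  · set β₀ := restrict β N hN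
    have hfpf : ∀ x : N, β₀ x = x → x = 1 := by
      intro x hx
      have hxG : β (x : G) = x := congrArg Subtype.val hx
      let C : Subgroup G := MonoidHom.eqLocus β.toMonoidHom (MonoidHom.id G)
      have h1 : orderOf (x : G) ∣ Nat.card C := Subgroup.orderOf_dvd_natCard C hxG
      have h2 : orderOf (x : G) ∣ Nat.card N := Subgroup.orderOf_dvd_natCard N x.2
      have h3 : Nat.card C = p ^ n := hfix
      have h4 := Nat.dvd_gcd h2 (h3 ▸ h1)
      rw [(Cores.pPrimeCore_card_coprime p).pow_right n, Nat.dvd_one, orderOf_eq_one_iff] at h4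
      exact Subtype.ext h4
    by_cases h1 : β₀ = 1
    · haveI : Subsingleton N := ⟨fun a b => by rw [hfpf a (by rw [h1]; rfl), hfpf b (by rw [h1]; rfl)]⟩
      exact Subsingleton.elim _ _
    have hord : orderOf β₀ = p := orderOf_eq_prime (restrict_pow hN hβ) h1
    exact le_bot_iff.mp ((Subgroup.derived_le_lower_central S).trans
      (le_of_eq (S3779.result hp.out β₀ hord hfpf).2.2))

end Cfsg.Agent.GenA.Alperin
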